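import Cfsg.Prelude.Def_Transfer
import Cfsg.Prelude.Def_LieTypeChar
import Cfsg.Agent.S1324
import Cfsg.Agent.FastGrp
import Cfsg.Agent.Prune
set_option linter.all false
prune_inst 0x7f00000000000000000000000000000000000000000000000000000000000000000000000000000000000000000000000000000000000000000000000000000000000000000000000000000000000000003fffffffffffffffffffffffffffbeffbdffffffff
open scoped Cfsg.Agent.FastGrp

/-!
# S2187: generation by the centralizers of the hyperplanes (hub file, helper818)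

* `CF F`      : the fixed points in `G` of a group `F` of automorphisms of `G`;
* `Gam p E`   : the subgroup of `G` generated by the `CF F`, `F` a hyperplane of `E`  (`Γ` of S2187);
* `Gen p G`   : the conclusion of S2187 for all `E ≤ Aut G`.
* `Gam_mono`  : `E ≤ E'` elementary abelian ⟹ `Gam p E' ≤ Gam p E`;
* `Gen.of_max`: it is enough to treat the maximal elementary abelian subgroups of `Aut G`;
* `le_Gam_of_coprime` : an `E`-invariant subgroup of order prime to `p` lies in `Gam p E`;
* `map_Gam`   : `Gam p E` is invariant under the normalizer of `E` in `Aut G`;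
* `CF_zpowers_le` : `|E| = p ^ 2`, `1 ≠ e ∈ E` ⟹ `C_G(e) ≤ Gam p E`;
* `Gen.congr` : invariance under isomorphisms;
* `le_Gam_of_hom` : the form with a group `X` acting on `G`.
-/

set_option autoImplicit false
set_option linter.dupNamespace false
set_option linter.unusedSectionVars false

namespace Cfsg.Agent.H818.Gen

open Cfsg Subgroup

section defs

variable {G : Type*} [Group G]

/-- the fixed points of `F ≤ Aut G` -/
def CF (F : Subgroup (MulAut G)) : Subgroup G where
  carrier := {g | ∀ φ ∈ F, φ g = g}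
  one_mem' := fun φ _ => map_one φ
  mul_mem' := fun {a b} ha hb φ hφ => by rw [map_mul, ha φ hφ, hb φ hφ]
  inv_mem' := fun {a} ha φ hφ => by rw [map_inv, ha φ hφ]

/-- the subgroup generated by the centralizers of the hyperplanes of `E` -/
def Gam (p : ℕ) (E : Subgroup (MulAut G)) : Subgroup G :=
  closure {g : G | ∃ F : Subgroup (MulAut G), F ≤ E ∧ (F.subgroupOf E).index = p ∧ ∀ φ ∈ F, φ g = g}

/-- the conclusion of S2187 -/
def Gen (p : ℕ) (G : Type*) [Group G] : Prop :=
  ∀ E : Subgroup (MulAut G), IsElementaryAbelian p E → p ^ 2 ≤ Nat.card E → Gam p E = ⊤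

variable {p : ℕ} {E F : Subgroup (MulAut G)}

theorem CF_anti {F F' : Subgroup (MulAut G)} (h : F ≤ F') : CF F' ≤ CF F := fun _ hg φ hφ => hg φ (h hφ)

theorem CF_le_Gam (hF : F ≤ E) (hi : (F.subgroupOf E).index = p) : CF F ≤ Gam p E :=
  fun _ hg => subset_closure ⟨F, hF, hi, hg⟩

theorem CF_le_Gam' (hF : F ≤ E) (hi : F.relIndex E = p) : CF F ≤ Gam p E := CF_le_Gam hF hi

theorem Gam_le {H : Subgroup G} (h : ∀ F : Subgroup (MulAut G), F ≤ E → F.relIndex E = p → CF F ≤ H) : Gam p E ≤ H := by
  refine (closure_le _).2 ?_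
  rintro g ⟨F, hF, hi, hg⟩
  exact h F hF hi hg

end defs

section basic

variable {X : Type*} [Group X] {p : ℕ} [hp : Fact p.Prime]

/-- subgroups of an elementary abelian group -/
theorem elab_mono {E E' : Subgroup X} (h : E ≤ E') (hE : IsElementaryAbelian p E') : IsElementaryAbelian p E := by
  refine ⟨⟨⟨fun a b => ?_⟩⟩, fun a ha => hE.2 a (h ha)⟩
  have := hE.1.1.1 ⟨a, h a.2⟩ ⟨b, h b.2⟩
  exact Subtype.ext (congrArg (fun z : ↥E' => (z : X)) this)

theorem elab_isPGroup {E : Subgroup X} (hE : IsElementaryAbelian p E) : IsPGroup p ↥E := by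
  intro a
  exact ⟨1, by rw [pow_one]; exact Subtype.ext (hE.2 a a.2)⟩

/-- an elementary abelian group `≠ 1` has hyperplanes -/
theorem exists_hyperplane {E : Subgroup X} [Finite E] (hE : IsElementaryAbelian p E) (h1 : p ≤ Nat.card E) :
    ∃ F ≤ E, F.relIndex E = p := by
  obtain ⟨n, hn⟩ := (elab_isPGroup hE).exists_card_eq
  rcases Nat.eq_zero_or_pos n with h0 | h0
  · rw [h0, pow_zero] at hn
    have := hp.out.one_lt
    omega
  · obtain ⟨F, hF⟩ := Sylow.exists_subgroup_card_pow_prime (G := ↥E) p (n := n - 1) (by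
      rw [hn]; exact pow_dvd_pow p (Nat.sub_le n 1))
    refine ⟨F.map E.subtype, map_subtype_le F, ?_⟩
    have h2 : (F.map E.subtype).subgroupOf E = F := by
      rw [← Subgroup.comap_subtype]
      exact Subgroup.comap_map_eq_self_of_injective E.subtype_injective F
    rw [relIndex, h2]
    have h3 := F.card_mul_index
    rw [hF, hn] at h3
    have h4 : p ^ n = p ^ (n - 1) * p := by rw [← pow_succ, Nat.sub_add_cancel h0]
    rw [h4] at h3
    exact Nat.eq_of_mul_eq_mul_left (pow_pos hp.out.pos _) h3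

/-- a hyperplane of a larger elementary abelian group meets `E` in `E` or in a hyperplane of `E` -/
theorem inf_hyperplane {E E' F : Subgroup X} [Finite E'] (h : E ≤ E') (hE : IsElementaryAbelian p E')
    (hF : F ≤ E') (hi : F.relIndex E' = p) : E ≤ F ∨ (F ⊓ E).relIndex E = p := by
  by_cases hle : E ≤ F
  · exact Or.inl hle
  right
  rw [inf_relIndex_right]
  -- `F` is normal in `E'`
  have hcomm : IsMulCommutative ↥E' := hE.1
  have hn : (F.subgroupOf E').Normal := ⟨fun a ha g => by
    have : g * a * g⁻¹ = a := by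
      rw [hcomm.1.1 g a]; group
    rwa [this]⟩
  have h1 : F.relIndex E ∣ F.relIndex E' := by
    have h2 : (F.subgroupOf E').relIndex (E.subgroupOf E') ∣ (F.subgroupOf E').index :=
      relIndex_dvd_index_of_normal _ _
    rw [relIndex_subgroupOf h] at h2
    exact h2
  rw [hi] at h1
  rcases (Nat.dvd_prime hp.out).1 h1 with h2 | h2
  · exact absurd (relIndex_eq_one.1 h2) hle
  · exact h2

end basic

section mono

variable {G : Type*} [Group G] [Finite G] {p : ℕ} [hp : Fact p.Prime]

/-- **monotonicity** : a larger `E` gives a smaller group -/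
theorem Gam_mono {E E' : Subgroup (MulAut G)} (h : E ≤ E') (hE : IsElementaryAbelian p E') (hc : p ≤ Nat.card E) :
    Gam p E' ≤ Gam p E := by
  refine Gam_le fun F hF hi => ?_
  rcases inf_hyperplane h hE hF hi with h1 | h1
  · obtain ⟨F₁, hF₁, hi₁⟩ := exists_hyperplane (elab_mono h hE) hc
    exact (CF_anti (hF₁.trans h1)).trans (CF_le_Gam' hF₁ hi₁)
  · exact (CF_anti inf_le_left).trans (CF_le_Gam' inf_le_right h1)

/-- fixed points of the elements of a group of order `p ^ 2` -/
theorem CF_zpowers_le {E : Subgroup (MulAut G)} (hE : IsElementaryAbelian p E) (hc : Nat.card E = p ^ 2) {e : MulAut G}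
    (he : e ∈ E) (h1 : e ≠ 1) : CF (zpowers e) ≤ Gam p E := by
  have h2 : orderOf e = p := orderOf_eq_prime (hE.2 e he) h1
  have h3 : zpowers e ≤ E := zpowers_le.2 he
  refine CF_le_Gam' h3 ?_
  have h4 := (zpowers e).subgroupOf E |>.card_mul_index
  rw [Nat.card_congr (subgroupOfEquivOfLe h3).toEquiv, Nat.card_zpowers, h2, hc, pow_two] at h4
  exact Nat.eq_of_mul_eq_mul_left hp.out.pos h4

theorem mem_Gam_of_fixed {E : Subgroup (MulAut G)} (hE : IsElementaryAbelian p E) (hc : Nat.card E = p ^ 2)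
    {e : MulAut G} (he : e ∈ E) (h1 : e ≠ 1) {g : G} (hg : e g = g) : g ∈ Gam p E := by
  refine CF_zpowers_le hE hc he h1 fun φ hφ => ?_
  obtain ⟨n, rfl⟩ := mem_zpowers_iff.1 hφ
  have h2 : e ∈ MulAction.stabilizer (MulAut G) g := hg
  exact (MulAction.stabilizer (MulAut G) g).zpow_mem h2 n

theorem CF_le_Gam_of_card {E : Subgroup (MulAut G)} (hE : IsElementaryAbelian p E) (hc : p ≤ Nat.card E) : CF E ≤ Gam p E := by
  obtain ⟨F, h1, h2⟩ := exists_hyperplane hE hc
  exact (CF_anti h1).trans (CF_le_Gam' h1 h2)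

end mono

section coprime

variable {G : Type*} [Group G] [Finite G] {p : ℕ} [hp : Fact p.Prime]

open SemidirectProduct in
/-- **coprime generation** : an `E`-invariant subgroup of order prime to `p` lies in `Gam p E` -/
theorem le_Gam_of_coprime {E : Subgroup (MulAut G)} (hE : IsElementaryAbelian p E) (hc : p ^ 2 ≤ Nat.card E)
    {X : Subgroup G} (hX : ¬ p ∣ Nat.card X) (hEX : ∀ φ ∈ E, ∀ x ∈ X, φ x ∈ X) : X ≤ Gam p E := by
  -- the holomorph
  let Y := G ⋊[MonoidHom.id (MulAut G)] MulAut G
  have hfin : Finite Y := Finite.of_equiv (G × MulAut G) (SemidirectProduct.equivProd).symm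
  let i : G →* Y := inl
  let j : MulAut G →* Y := inr
  have hi : Function.Injective i := inl_injective
  have hj : Function.Injective j := inr_injective
  have hact : ∀ (φ : MulAut G) (g : G), j φ * i g * (j φ)⁻¹ = i (φ g) := fun φ g => by
    have := inl_aut (φ := MonoidHom.id (MulAut G)) φ g
    rw [MonoidHom.id_apply] at this
    rw [this]
    rw [map_inv]
  have hE' : IsElementaryAbelian p (E.map j) := by
    refine ⟨⟨⟨?_⟩⟩, ?_⟩
    · rintro ⟨_, a, ha, rfl⟩ ⟨_, b, hb, rfl⟩
      have := congrArg (fun z : ↥E => (z : MulAut G)) (hE.1.1.1 ⟨a, ha⟩ ⟨b, hb⟩)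
      refine Subtype.ext ?_
      show j a * j b = j b * j a
      rw [← map_mul, ← map_mul]
      exact congrArg j this
    · rintro _ ⟨a, ha, rfl⟩
      rw [← map_pow, hE.2 a ha, map_one]
  have hcE : Nat.card ↥(E.map j) = Nat.card ↥E := Nat.card_congr (E.equivMapOfInjective j hj).toEquiv.symm
  have hcX : Nat.card ↥(X.map i) = Nat.card ↥X := Nat.card_congr (X.equivMapOfInjective i hi).toEquiv.symm
  have hN : E.map j ≤ normalizer ((X.map i : Subgroup Y) : Set Y) := by
    rintro _ ⟨φ, hφ, rfl⟩
    rw [mem_normalizer_iff]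
    intro y
    constructor
    · rintro ⟨x, hx, rfl⟩
      exact ⟨φ x, hEX φ hφ x hx, (hact φ x).symm⟩
    · rintro ⟨x, hx, hxy⟩
      refine ⟨φ⁻¹ x, hEX _ (E.inv_mem hφ) x hx, ?_⟩
      rw [← hact, hxy, map_inv, inv_inv]
      simp only [mul_assoc, inv_mul_cancel, mul_one, inv_mul_cancel_left]
  have h := S1324.result (H := Y) p (E.map j) (X.map i) hE' (by rw [hcE]; exact hc) (by rw [hcX]; exact hX) hN
  intro x hx
  have h1 : i x ∈ (Gam p E).map i := by
    have h2 : (X.map i : Subgroup Y) ≤ (Gam p E).map i := by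
      rw [h]
      refine iSup_le ?_
      rintro ⟨B, hB, hBi⟩
      rintro _ ⟨⟨g, hg, rfl⟩, hgB⟩
      refine ⟨g, ?_, rfl⟩
      -- `B` is `1` index or a hyperplane
      obtain ⟨F, hF⟩ : ∃ F : Subgroup (MulAut G), F.map j = B := by
        refine ⟨B.comap j, map_comap_eq_self ?_⟩
        exact hB.trans (by rintro _ ⟨a, -, rfl⟩; exact ⟨a, rfl⟩)
      subst hF
      have hFE : F ≤ E := by
        intro a ha
        obtain ⟨b, hb, hab⟩ := hB ⟨a, ha, rfl⟩
        rwa [← hj hab]
      have hrel : (F.map j).relIndex (E.map j) = F.relIndex E := relIndex_map_map_of_injective _ _ hj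
      have hgF : ∀ φ ∈ F, φ g = g := by
        intro φ hφ
        have h3 := (mem_centralizer_iff.1 hgB) (j φ) ⟨φ, hφ, rfl⟩
        apply hi
        rw [← hact, h3, mul_inv_cancel_right]
      have hgCF : g ∈ CF F := hgF
      have hd : F.relIndex E ∣ Nat.card E := by
        have := (F.subgroupOf E).index_dvd_card
        exact this
      obtain ⟨n, hn⟩ := (elab_isPGroup hE).exists_card_eq
      rw [hn] at hd
      obtain ⟨m, -, hm⟩ := (Nat.dvd_prime_pow hp.out).1 hd
      rw [hrel, hm] at hBi
      have h1p := hp.out.one_lt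
      have hm1 : m ≤ 1 := by
        by_contra hcon
        push Not at hcon
        have := Nat.pow_lt_pow_right h1p hcon
        rw [pow_one] at this
        omega
      interval_cases m
      · rw [pow_zero] at hm
        have h5 : E ≤ F := relIndex_eq_one.1 hm
        exact CF_le_Gam_of_card hE (le_trans (by nlinarith) hc) (CF_anti h5 hgCF)
      · rw [pow_one] at hm
        exact CF_le_Gam' hFE hm hgCF
    exact h2 ⟨x, hx, rfl⟩
  obtain ⟨y, hy, hyx⟩ := h1
  rwa [← hi hyx]

end coprime

section invariance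

variable {G : Type*} [Group G] {p : ℕ}

/-- `Gam p E` is mapped by an automorphism to the group of the conjugate of `E` -/
theorem map_Gam_le {H : Type*} [Group H] (f : G ≃* H) (E : Subgroup (MulAut G)) :
    (Gam p E).map f.toMonoidHom ≤ Gam p (E.map (MulAut.congr f).toMonoidHom) := by
  rw [map_le_iff_le_comap]
  refine Gam_le fun F hF hi => ?_
  intro g hg
  rw [mem_comap]
  refine CF_le_Gam' (F := F.map (MulAut.congr f).toMonoidHom) (map_mono hF) ?_ ?_
  · rw [relIndex_map_map_of_injective _ _ (MulAut.congr f).injective, hi]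
  · rintro _ ⟨φ, hφ, rfl⟩
    show f (φ (f.symm (f g))) = f g
    rw [f.symm_apply_apply, hg φ hφ]

theorem map_Gam {H : Type*} [Group H] (f : G ≃* H) (E : Subgroup (MulAut G)) :
    (Gam p E).map f.toMonoidHom = Gam p (E.map (MulAut.congr f).toMonoidHom) := by
  refine le_antisymm (map_Gam_le f E) fun h hh => ?_
  have h1 := map_Gam_le (p := p) f.symm (E.map (MulAut.congr f).toMonoidHom) ⟨h, hh, rfl⟩
  have h2 : (E.map (MulAut.congr f).toMonoidHom).map (MulAut.congr f.symm).toMonoidHom = E := by
    rw [Subgroup.map_map]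
    have : ((MulAut.congr f.symm).toMonoidHom).comp ((MulAut.congr f).toMonoidHom) = MonoidHom.id _ := by
      ext φ x
      show f.symm (f (φ (f.symm (f.symm.symm x)))) = φ x
      rw [f.symm_apply_apply]
      show φ (f.symm (f x)) = φ x
      rw [f.symm_apply_apply]
    rw [this, Subgroup.map_id]
  rw [h2] at h1
  exact ⟨f.symm h, h1, f.apply_symm_apply h⟩

/-- **invariance under isomorphisms** -/
theorem Gen.congr {H : Type*} [Group H] (f : G ≃* H) (h : Gen p G) : Gen p H := by
  intro E hE hc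
  have h0 : E.map (MulAut.congr f.symm).toMonoidHom = E.map (MulAut.congr f.symm).toMonoidHom := rfl
  have h1 := h (E.map (MulAut.congr f.symm).toMonoidHom) ?_ ?_
  · have h2 := map_Gam (p := p) f.symm E
    rw [h1] at h2
    rw [eq_top_iff]
    intro x _
    have h3 : f.symm x ∈ (Gam p E).map f.symm.toMonoidHom := by rw [h2]; exact mem_top _
    obtain ⟨y, hy, hyx⟩ := h3
    have : y = x := f.symm.injective hyx
    rwa [← this]
  · refine ⟨⟨⟨?_⟩⟩, ?_⟩
    · rintro ⟨_, a, ha, rfl⟩ ⟨_, b, hb, rfl⟩
      have := congrArg (fun z : ↥E => (z : MulAut H)) (hE.1.1.1 ⟨a, ha⟩ ⟨b, hb⟩)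
      refine Subtype.ext ?_
      show (MulAut.congr f.symm) a * (MulAut.congr f.symm) b = (MulAut.congr f.symm) b * (MulAut.congr f.symm) a
      rw [← map_mul, ← map_mul]
      exact congrArg _ this
    · rintro _ ⟨a, ha, rfl⟩
      rw [← map_pow, hE.2 a ha, map_one]
  · rw [Nat.card_congr (E.equivMapOfInjective _ (MulAut.congr f.symm).injective).toEquiv.symm]
    exact hc

/-- elements of `G` whose inner automorphism normalizes `E` normalize `Gam p E` -/
theorem conj_Gam {E : Subgroup (MulAut G)} {φ : MulAut G} (h : ∀ e ∈ E, φ * e * φ⁻¹ ∈ E) (h' : ∀ e ∈ E, φ⁻¹ * e * φ ∈ E)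
    {g : G} (hg : g ∈ Gam p E) : φ g ∈ Gam p E := by
  have h1 := map_Gam_le (p := p) φ E ⟨g, hg, rfl⟩
  have h2 : E.map (MulAut.congr φ).toMonoidHom = E := by
    have e1 : ∀ e : MulAut G, (MulAut.congr φ) e = φ * e * φ⁻¹ := fun e => by
      ext x; rfl
    ext e
    constructor
    · rintro ⟨a, ha, rfl⟩
      show (MulAut.congr φ) a ∈ E
      rw [e1]; exact h a ha
    · intro he
      refine ⟨φ⁻¹ * e * φ, h' e he, ?_⟩
      show (MulAut.congr φ) _ = e
      rw [e1]; group
  rwa [h2] at h1

end invariance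

section hom

variable {G X : Type*} [Group G] [Group X] {p : ℕ} [hp : Fact p.Prime]

/-- the form with a group `X` acting on `G` through `f`: `E ≤ X` with `f` injective on `E` -/
theorem Gam_map (f : X →* MulAut G) {E : Subgroup X} (hf : ∀ e ∈ E, f e = 1 → e = 1) :
    Gam p (E.map f) = closure {g : G | ∃ F : Subgroup X, F ≤ E ∧ F.relIndex E = p ∧ ∀ x ∈ F, f x g = g} := by
  apply le_antisymm
  · refine Gam_le fun F hF hi => ?_
    intro g hg
    refine subset_closure ⟨F.comap f ⊓ E, inf_le_right, ?_, ?_⟩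
    · rw [inf_relIndex_right]
      -- `F = (F.comap f ⊓ E).map f`
      have h1 : (F.comap f).relIndex E = F.relIndex (E.map f) := relIndex_comap _ _ _
      rw [h1, hi]
    · rintro x ⟨hx, -⟩
      exact hg (f x) hx
  · rw [closure_le]
    rintro g ⟨F, hF, hi, hg⟩
    refine CF_le_Gam' (F := F.map f) (map_mono hF) ?_ ?_
    · have h1 : (F.map f).relIndex (E.map f) = ((F.map f).comap f).relIndex E := (relIndex_comap _ _ _).symm
      rw [h1, ← inf_relIndex_right]
      have h2 : (F.map f).comap f ⊓ E = F := by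
        ext x
        constructor
        · rintro ⟨⟨y, hy, hyx⟩, hx⟩
          have h3 : y⁻¹ * x = 1 := hf _ (E.mul_mem (E.inv_mem (hF hy)) hx) (by rw [map_mul, map_inv, hyx]; group)
          rwa [← inv_mul_eq_one.1 h3]
        · intro hx
          exact ⟨⟨x, hx, rfl⟩, hF hx⟩
      rw [h2, hi]
    · rintro _ ⟨x, hx, rfl⟩
      exact hg x hx

end hom

end Cfsg.Agent.H818.Gen
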